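import Groth.Agent.CohTwo.LocFreeExt
import Groth.Agent.CohTwo.Extend
import Groth.Agent.DerivedCoh.ExtZero.Projection
import Groth.Agent.LocCohZBase.DerivedComp
import Groth.Agent.SitesTopoi.Mod.TensorExact

/-!
Ext sheaves commute with restriction to open subschemes.
-/

universe u

open CategoryTheory CategoryTheory.Limits AlgebraicGeometry

set_option backward.isDefEq.respectTransparency false
set_option linter.style.haveILetI false

namespace Groth.SheafExt

/-- An exact functor after a derived functor. -/
theorem nonempty_rightDerived_comp_exact {C D E : Type*} [Category* C] [Category* D] [Category* E]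
    [Abelian C] [Abelian D] [Abelian E] [HasInjectiveResolutions C] (A : C ⥤ D) (B : D ⥤ E)
    [A.Additive] [B.Additive] [PreservesFiniteLimits B] [PreservesFiniteColimits B] (i : ℕ) (G : C) :
    Nonempty (((A ⋙ B).rightDerived i).obj G ≅ B.obj ((A.rightDerived i).obj G)) :=
  ⟨(injectiveResolution G).isoRightDerivedObj (A ⋙ B) i ≪≫
    (HomologicalComplex.homologyFunctor E _ i).mapIso
      (LocCohZBase.DerivedComp.cxIso A B (injectiveResolution G).cocomplex) ≪≫
    (((A.mapHomologicalComplex _).obj (injectiveResolution G).cocomplex).sc i).mapHomologyIso B ≪≫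
    B.mapIso ((injectiveResolution G).isoRightDerivedObj A i).symm⟩

open Groth.CohTwo.LocFreeExt (tR)
open Groth.DerivedCoh.ExtZero (projHom projHom_left)

variable {U X : Scheme.{u}} (j : U ⟶ X) [IsOpenImmersion j]

/-- The projection formula as an isomorphism of functors. -/
noncomputable def projNatIso (F : X.Modules) :
    tR (F.restrict j) ⋙ CxOX.extZero j ≅ CxOX.extZero j ⋙ tR F :=
  NatIso.ofComponents (fun P => asIso (projHom j P F)) fun f => projHom_left j f F

/-- The internal Hom commutes with restriction. -/
noncomputable def sheafHomRestrictIso (F : X.Modules) [ModSite.HasSheafHom (O := X.sheaf) F]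
    [ModSite.HasSheafHom (O := U.sheaf) (F.restrict j)] :
    (ModSite.sheafHom (O := X.sheaf) F : X.Modules ⥤ X.Modules) ⋙ Scheme.Modules.restrictFunctor j ≅
      Scheme.Modules.restrictFunctor j ⋙
        (ModSite.sheafHom (O := U.sheaf) (F.restrict j) : U.Modules ⥤ U.Modules) :=
  (Adjunction.rightAdjointUniq
    (((ModSite.sheafHomAdj (O := U.sheaf) (F.restrict j) :
        tR (F.restrict j) ⊣ _).comp (CxOX.extZeroAdj j)).ofNatIsoLeft (projNatIso j F))
    ((CxOX.extZeroAdj j).comp (ModSite.sheafHomAdj (O := X.sheaf) F : tR F ⊣ _))).symm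

/-- Ext sheaves commute with restriction to an open. -/
theorem nonempty_extSh_restrict (F G : X.Modules) (i : ℕ)
    [ModSite.HasSheafHom (O := X.sheaf) F] [HasInjectiveResolutions (ModSite.Mod X.sheaf)]
    [ModSite.HasSheafHom (O := U.sheaf) (F.restrict j)]
    [HasInjectiveResolutions (ModSite.Mod U.sheaf)] :
    Nonempty ((Scheme.Modules.restrictFunctor j).obj ((ModSite.extSh (O := X.sheaf) F i).obj G) ≅
      (ModSite.extSh (O := U.sheaf) (F.restrict j) i).obj (G.restrict j)) := by
  haveI : HasInjectiveResolutions X.Modules := ‹HasInjectiveResolutions (ModSite.Mod X.sheaf)›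
  haveI : HasInjectiveResolutions U.Modules := ‹HasInjectiveResolutions (ModSite.Mod U.sheaf)›
  haveI : PreservesFiniteLimits (Scheme.Modules.restrictFunctor j) :=
    haveI : PreservesLimitsOfSize.{0, 0} (Scheme.Modules.restrictFunctor j) :=
      (CxOX.extZeroAdj j).rightAdjoint_preservesLimits
    PreservesLimitsOfSize.preservesFiniteLimits _
  haveI : PreservesFiniteColimits (Scheme.Modules.restrictFunctor j) :=
    haveI : PreservesColimitsOfSize.{0, 0} (Scheme.Modules.restrictFunctor j) :=
      (Scheme.Modules.restrictAdjunction j).leftAdjoint_preservesColimits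
    PreservesColimitsOfSize.preservesFiniteColimits _
  haveI : (Scheme.Modules.restrictFunctor j).PreservesInjectiveObjects :=
    ⟨fun {I} _ => CohTwo.injective_restrict j I⟩
  let A : X.Modules ⥤ X.Modules := ModSite.sheafHom (O := X.sheaf) F
  let B : U.Modules ⥤ U.Modules := ModSite.sheafHom (O := U.sheaf) (F.restrict j)
  haveI : A.Additive := ModSite.sheafHom_additive (O := X.sheaf) F
  haveI : B.Additive := ModSite.sheafHom_additive (O := U.sheaf) (F.restrict j)
  haveI : PreservesFiniteLimits B :=
    haveI : PreservesLimitsOfSize.{0, 0} B :=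
      (ModSite.sheafHomAdj (O := U.sheaf) (F.restrict j)).rightAdjoint_preservesLimits
    PreservesLimitsOfSize.preservesFiniteLimits _
  obtain ⟨c⟩ := nonempty_rightDerived_comp_exact A (Scheme.Modules.restrictFunctor j) i G
  let h : A ⋙ Scheme.Modules.restrictFunctor j ≅ Scheme.Modules.restrictFunctor j ⋙ B :=
    sheafHomRestrictIso j F
  exact ⟨c.symm ≪≫ ({ hom := NatTrans.rightDerived h.hom i
                      inv := NatTrans.rightDerived h.inv i
                      hom_inv_id := by
                        rw [← NatTrans.rightDerived_comp, Iso.hom_inv_id, NatTrans.rightDerived_id]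
                      inv_hom_id := by
                        rw [← NatTrans.rightDerived_comp, Iso.inv_hom_id, NatTrans.rightDerived_id] } :
        (A ⋙ Scheme.Modules.restrictFunctor j).rightDerived i ≅
          (Scheme.Modules.restrictFunctor j ⋙ B).rightDerived i).app G ≪≫
      (LocCohZBase.DerivedComp.rightDerivedCompIso (Scheme.Modules.restrictFunctor j) B i).app G⟩

end Groth.SheafExt
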