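import Groth.Agent.SheafExt.Affine
import Groth.Agent.SheafExt.Restrict
import Groth.Agent.KTheory.PerfCoh
import Mathlib.Algebra.Category.ModuleCat.Ext.Finite

/-!
Ext sheaves of coherent modules: invariance, affine charts, coherence.
-/

universe u

open CategoryTheory CategoryTheory.Limits AlgebraicGeometry

set_option backward.isDefEq.respectTransparency false
set_option linter.style.haveILetI false

namespace Groth.SheafExt

open Groth.CohTwo.LocFreeExt (tR)

variable {X Y : Scheme.{u}}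

/-- The Ext sheaf as an object of `X.Modules`. -/
noncomputable abbrev extObj (F : X.Modules) [ModSite.HasSheafHom (O := X.sheaf) F]
    [HasInjectiveResolutions (ModSite.Mod X.sheaf)] (i : ℕ) (G : X.Modules) : X.Modules :=
  (ModSite.extSh (O := X.sheaf) F i).obj G

/-- Invariance in the first variable. -/
theorem nonempty_extSh_congr {F F' : X.Modules} (e : F ≅ F')
    [ModSite.HasSheafHom (O := X.sheaf) F] [ModSite.HasSheafHom (O := X.sheaf) F']
    [HasInjectiveResolutions (ModSite.Mod X.sheaf)] (i : ℕ) (G : X.Modules) :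
    Nonempty ((ModSite.extSh (O := X.sheaf) F i).obj G ≅
      (ModSite.extSh (O := X.sheaf) F' i).obj G) :=
  let h : (ModSite.sheafHom (O := X.sheaf) F) ≅ ModSite.sheafHom (O := X.sheaf) F' :=
    Adjunction.rightAdjointUniq (ModSite.sheafHomAdj (O := X.sheaf) F)
      ((ModSite.sheafHomAdj (O := X.sheaf) F').ofNatIsoLeft
        ((ModSite.tensorBi X.sheaf).flip.mapIso e.symm))
  ⟨({ hom := NatTrans.rightDerived h.hom i
      inv := NatTrans.rightDerived h.inv i
      hom_inv_id := by rw [← NatTrans.rightDerived_comp, Iso.hom_inv_id, NatTrans.rightDerived_id]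
      inv_hom_id := by rw [← NatTrans.rightDerived_comp, Iso.inv_hom_id, NatTrans.rightDerived_id] } :
    _ ≅ _).app G⟩

theorem isCoh_restrictFunctor (j : Y ⟶ X) [IsOpenImmersion j] {F : X.Modules} (hF : Coh.IsCoh F) :
    Coh.IsCoh (F.restrict j) :=
  haveI := hF.1
  QCohMod.isCoh_of_iso ((Scheme.Modules.restrictFunctorIsoPullback j).app F).symm
    ⟨inferInstance, QCohMod.isFT_pullback j F hF.2⟩

theorem finite_Γ_of_isCoh {R : CommRingCat.{u}} {M : (Spec R).Modules} (hM : Coh.IsCoh M) :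
    Module.Finite R (moduleSpecΓFunctor.obj M) := by
  haveI := hM.1
  refine (PropsBasic.FPSections.isFT_tilde_iff _).1 ?_
  exact (QCohMod.isCoh_of_iso (asIso M.fromTildeΓ).symm hM).2

/-- On an affine chart, Ext sheaves are tilde of Ext modules. -/
theorem nonempty_extSh_restrict_fromSpec [IsLocallyNoetherian X] (F G : X.Modules)
    (hF : Coh.IsCoh F) [G.IsQuasicoherent]
    [ModSite.HasSheafHom (O := X.sheaf) F] [HasInjectiveResolutions (ModSite.Mod X.sheaf)]
    {U : X.Opens} (hU : IsAffineOpen U) (i : ℕ) :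
    Nonempty ((extObj F i G).restrict hU.fromSpec ≅
      tilde (ModuleCat.of Γ(X, U) (Abelian.Ext (moduleSpecΓFunctor.obj (F.restrict hU.fromSpec))
        (moduleSpecΓFunctor.obj (G.restrict hU.fromSpec)) i))) := by
  haveI : IsNoetherianRing Γ(X, U) := IsLocallyNoetherian.component_noetherian ⟨U, hU⟩
  haveI := isCoh_restrictFunctor hU.fromSpec hF
  have hFU : Coh.IsCoh (F.restrict hU.fromSpec) := ‹_›
  haveI := hFU.1
  haveI := finite_Γ_of_isCoh hFU
  haveI := SitesTopoi.ModH.hasSheafHom (O := (Spec Γ(X, U)).sheaf) (F.restrict hU.fromSpec)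
  haveI := SitesTopoi.ModH.hasSheafHom (O := (Spec Γ(X, U)).sheaf)
    (tilde (moduleSpecΓFunctor.obj (F.restrict hU.fromSpec)))
  haveI : HasInjectiveResolutions (ModSite.Mod (Spec Γ(X, U)).sheaf) := inferInstance
  obtain ⟨a⟩ := nonempty_extSh_restrict hU.fromSpec F G i
  obtain ⟨b⟩ := nonempty_extSh_congr (F' := tilde (moduleSpecΓFunctor.obj (F.restrict hU.fromSpec)))
    (asIso (F.restrict hU.fromSpec).fromTildeΓ).symm i
    (G.restrict hU.fromSpec)
  obtain ⟨c⟩ := Affine.nonempty_extSh_tilde_iso (moduleSpecΓFunctor.obj (F.restrict hU.fromSpec))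
    (moduleSpecΓFunctor.obj (G.restrict hU.fromSpec)) i
  exact ⟨a ≪≫ b ≪≫ (ModSite.extSh (O := (Spec Γ(X, U)).sheaf) _ i).mapIso
    (asIso (G.restrict hU.fromSpec).fromTildeΓ).symm ≪≫ c⟩

/-- Ext sheaves of coherent modules are coherent. -/
theorem isCoh_extSh [IsLocallyNoetherian X] (F G : X.Modules) (hF : Coh.IsCoh F) (hG : Coh.IsCoh G)
    [ModSite.HasSheafHom (O := X.sheaf) F] [HasInjectiveResolutions (ModSite.Mod X.sheaf)] (i : ℕ) :
    Coh.IsCoh (extObj F i G) := by
  refine KTheory.Perf.isCoh_of_local fun x => ?_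
  obtain ⟨W, hW, hx, -⟩ := X.isBasis_affineOpens.exists_subset_of_mem_open (Set.mem_univ x) isOpen_univ
  obtain ⟨U, hU, rfl⟩ := hW
  refine ⟨U, hx, ?_⟩
  haveI := hG.1
  haveI : IsNoetherianRing Γ(X, U) := IsLocallyNoetherian.component_noetherian ⟨U, hU⟩
  haveI := finite_Γ_of_isCoh (isCoh_restrictFunctor hU.fromSpec hF)
  haveI := finite_Γ_of_isCoh (isCoh_restrictFunctor hU.fromSpec hG)
  obtain ⟨e⟩ := nonempty_extSh_restrict_fromSpec F G hF hU i
  have hE : Coh.IsCoh ((extObj F i G).restrict hU.fromSpec) :=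
    QCohMod.isCoh_of_iso e.symm ⟨inferInstance,
      (PropsBasic.FPSections.isFT_tilde_iff _).2
        (inferInstanceAs (Module.Finite Γ(X, U) (Abelian.Ext _ _ i)))⟩
  exact QCohMod.isCoh_of_iso
    ((Scheme.Modules.restrictFunctorCongr hU.isoSpec_hom_fromSpec.symm).app _ ≪≫
      (Scheme.Modules.restrictFunctorComp _ _).app _).symm
    (isCoh_restrictFunctor hU.isoSpec.hom hE)

end Groth.SheafExt
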