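import Groth.Agent.SheafExt.Effaceable
import Groth.Agent.SitesTopoi.Mod.KFlat
import Groth.Agent.SitesTopoi.Mod.Invertible
import Groth.Prelude.Def_ModSite2
import Groth.Prelude.Def_ExtSupp

/-!
The internal Hom as a functor of its first argument, and Ext sheaves from resolutions.
-/

universe u

open CategoryTheory CategoryTheory.Limits HomologicalComplex

set_option backward.defeqAttrib.useBackward true
set_option backward.isDefEq.respectTransparency false
set_option synthInstance.maxHeartbeats 400000
set_option linter.style.haveILetI false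

namespace Groth.SheafExt

variable {C : Type u} [SmallCategory C] {J : GrothendieckTopology C} {O : Sheaf J CommRingCat.{u}}

open Groth.SitesTopoi

/-- Currying. -/
noncomputable abbrev curry (M : ModSite.Mod O) [ModSite.HasSheafHom M] {H I : ModSite.Mod O} :
    (((ModSite.tensorBi O).obj H).obj M ⟶ I) ≃ (H ⟶ (ModSite.sheafHom M).obj I) :=
  (ModSite.sheafHomAdj M).homEquiv H I

theorem curry_symm_def (M : ModSite.Mod O) [ModSite.HasSheafHom M] {H I : ModSite.Mod O}
    (x : H ⟶ (ModSite.sheafHom M).obj I) :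
    (curry M).symm x =
      ((ModSite.tensorBi O).flip.obj M).map x ≫ (ModSite.sheafHomAdj M).counit.app I :=
  Adjunction.homEquiv_counit _ _ _ _

theorem curry_symm_comp {M M' : ModSite.Mod O} [ModSite.HasSheafHom M] [ModSite.HasSheafHom M']
    (g : M' ⟶ M) {H I : ModSite.Mod O} (x : H ⟶ (ModSite.sheafHom M).obj I) :
    (curry M').symm (x ≫ (ExtSupp.sheafHomMap g).app I) =
      ((ModSite.tensorBi O).obj H).map g ≫ (curry M).symm x := by
  rw [curry_symm_def, curry_symm_def, Functor.map_comp, Category.assoc,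
    conjugateEquiv_counit, ← Category.assoc, ((ModSite.tensorBi O).flip.map g).naturality,
    Category.assoc]
  rfl

theorem curry_symm_zero (M : ModSite.Mod O) [ModSite.HasSheafHom M] {H I : ModSite.Mod O} :
    (curry M).symm (0 : H ⟶ (ModSite.sheafHom M).obj I) = 0 := by
  rw [curry_symm_def, Functor.map_zero, zero_comp]

theorem sheafHomMap_comp_eq_zero {M M' M'' : ModSite.Mod O} [ModSite.HasSheafHom M]
    [ModSite.HasSheafHom M'] [ModSite.HasSheafHom M''] (f : M'' ⟶ M') (g : M' ⟶ M) (w : f ≫ g = 0)
    (I : ModSite.Mod O) :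
    (ExtSupp.sheafHomMap g).app I ≫ (ExtSupp.sheafHomMap f).app I = 0 := by
  apply (curry M'').symm.injective
  rw [curry_symm_zero, curry_symm_comp,
    ← Category.id_comp ((ExtSupp.sheafHomMap g).app I), curry_symm_comp, ← Category.assoc,
    ← Functor.map_comp, w, Functor.map_zero, zero_comp]

section

variable (S : ShortComplex (ModSite.Mod O)) [ModSite.HasSheafHom S.X₁] [ModSite.HasSheafHom S.X₂]
  [ModSite.HasSheafHom S.X₃]

/-- `Hom(X₃, I) → Hom(X₂, I) → Hom(X₁, I)`. -/
noncomputable abbrev homSeq (I : ModSite.Mod O) : ShortComplex (ModSite.Mod O) :=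
  ShortComplex.mk ((ExtSupp.sheafHomMap S.g).app I) ((ExtSupp.sheafHomMap S.f).app I)
    (sheafHomMap_comp_eq_zero S.f S.g S.zero I)

/-- Hom into an injective module is exact. -/
theorem exact_homSeq_of_injective (hS : S.Exact) (I : ModSite.Mod O) [Injective I] :
    (homSeq S I).Exact := by
  rw [ShortComplex.exact_iff_exact_up_to_refinements]
  intro P x hx
  let H := (Groth.Misc4.FreeCover.cover O).P.obj P
  let p : H ⟶ P := (Groth.Misc4.FreeCover.cover O).π.app P
  have hp : Epi p := (Groth.Misc4.FreeCover.cover O).epi P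
  have := ModH.isFlat_tensorObj (KFlatSite.isFlat_coverObj P : ModSite.IsFlat H)
  have hHS : (S.map ((ModSite.tensorBi O).obj H)).Exact := hS.map _
  have h0 : ((ModSite.tensorBi O).obj H).map S.f ≫ (curry S.X₂).symm (p ≫ x) = 0 := by
    rw [← curry_symm_comp, Category.assoc]
    refine (congrArg (fun t => (curry S.X₁).symm (p ≫ t)) hx).trans ?_
    rw [comp_zero, curry_symm_zero]
  refine ⟨H, p, hp, curry S.X₃ (hHS.descToInjective _ h0), ?_⟩
  apply (curry S.X₂).symm.injective
  rw [curry_symm_comp, Equiv.symm_apply_apply]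
  exact (hHS.comp_descToInjective _ h0).symm

variable [Epi S.g]

omit [ModSite.HasSheafHom S.X₁] in
theorem mono_homSeq (G : ModSite.Mod O) : Mono ((ExtSupp.sheafHomMap S.g).app G) := by
  refine Preadditive.mono_of_cancel_zero _ fun {H} x hx => ?_
  apply (curry S.X₃).symm.injective
  rw [curry_symm_zero]
  have h : ((ModSite.tensorBi O).obj H).map S.g ≫ (curry S.X₃).symm x = 0 := by
    rw [← curry_symm_comp, hx, curry_symm_zero]
  have : Epi (((ModSite.tensorBi O).obj H).map S.g) := inferInstance
  rwa [← cancel_epi (((ModSite.tensorBi O).obj H).map S.g), comp_zero]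

/-- Left exactness of the internal Hom in the first argument. -/
theorem exact_homSeq (hS : S.Exact) (G : ModSite.Mod O) : (homSeq S G).Exact := by
  rw [ShortComplex.exact_iff_exact_up_to_refinements]
  intro P x hx
  have h0 : ((ModSite.tensorBi O).obj P).map S.f ≫ (curry S.X₂).symm x = 0 := by
    rw [← curry_symm_comp]
    refine (congrArg (curry S.X₁).symm hx).trans (curry_symm_zero _)
  have hPS : (S.map ((ModSite.tensorBi O).obj P)).Exact :=
    hS.map_of_epi_of_preservesCokernel _ ‹_› inferInstance
  haveI : Epi (S.map ((ModSite.tensorBi O).obj P)).g :=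
    inferInstanceAs (Epi (((ModSite.tensorBi O).obj P).map S.g))
  refine ⟨P, 𝟙 P, inferInstance, curry S.X₃ (hPS.gIsCokernel.desc (CokernelCofork.ofπ _ h0)), ?_⟩
  apply (curry S.X₂).symm.injective
  rw [curry_symm_comp, Equiv.symm_apply_apply, Category.id_comp]
  exact (hPS.gIsCokernel.fac (CokernelCofork.ofπ _ h0) WalkingParallelPair.one).symm

end

variable (E : ChainComplex (ModSite.Mod O) ℕ) [∀ j, ModSite.HasSheafHom (E.X j)]

/-- The complex `Hom(E, -)`. -/
noncomputable def homCx : ModSite.Mod O ⥤ CochainComplex (ModSite.Mod O) ℕ where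
  obj G := CochainComplex.of (fun j => (ModSite.sheafHom (E.X j)).obj G)
    (fun j => (ExtSupp.sheafHomMap (E.d (j + 1) j)).app G)
    (fun j => sheafHomMap_comp_eq_zero _ _ (E.d_comp_d _ _ _) G)
  map {G G'} φ :=
    { f := fun j => (ModSite.sheafHom (E.X j)).map φ
      comm' := fun i j hij => by
        obtain rfl : i + 1 = j := hij
        dsimp
        simp only [CochainComplex.of_d]
        exact (ExtSupp.sheafHomMap (E.d (i + 1) i)).naturality φ }

theorem homCx_d (G : ModSite.Mod O) (j : ℕ) :
    ((homCx E).obj G).d j (j + 1) = (ExtSupp.sheafHomMap (E.d (j + 1) j)).app G :=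
  CochainComplex.of_d (fun j => (ModSite.sheafHom (E.X j)).obj G)
    (fun j => (ExtSupp.sheafHomMap (E.d (j + 1) j)).app G) j

instance : (homCx E).PreservesZeroMorphisms where
  map_zero G G' := by
    refine HomologicalComplex.hom_ext _ _ fun j => ?_
    exact (ModSite.sheafHom (E.X j)).map_zero G G'

theorem exactAt_homCx_of_injective (I : ModSite.Mod O) [Injective I]
    (hex : ∀ j, E.ExactAt (j + 1)) (n : ℕ) : ((homCx E).obj I).ExactAt (n + 1) := by
  rw [exactAt_iff' _ n (n + 1) (n + 2) (by simp) (by simp)]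
  have h : (E.sc' (n + 2) (n + 1) n).Exact := (exactAt_iff' E _ _ _ (by simp) (by simp)).1 (hex n)
  haveI : ModSite.HasSheafHom (E.sc' (n + 2) (n + 1) n).X₁ :=
    inferInstanceAs (ModSite.HasSheafHom (E.X (n + 2)))
  haveI : ModSite.HasSheafHom (E.sc' (n + 2) (n + 1) n).X₂ :=
    inferInstanceAs (ModSite.HasSheafHom (E.X (n + 1)))
  haveI : ModSite.HasSheafHom (E.sc' (n + 2) (n + 1) n).X₃ :=
    inferInstanceAs (ModSite.HasSheafHom (E.X n))
  refine ShortComplex.exact_of_iso ?_ (exact_homSeq_of_injective (E.sc' (n + 2) (n + 1) n) h I)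
  refine ShortComplex.isoMk (Iso.refl _) (Iso.refl _) (Iso.refl _) ?_ ?_
  · exact (Category.id_comp _).trans ((homCx_d E I n).trans (Category.comp_id _).symm)
  · exact (Category.id_comp _).trans ((homCx_d E I (n + 1)).trans (Category.comp_id _).symm)

theorem shortExact_map_homCx
    (hE : ∀ j, (ModSite.sheafHom (E.X j)).PreservesEpimorphisms)
    {S : ShortComplex (ModSite.Mod O)} (hS : S.ShortExact) : (S.map (homCx E)).ShortExact := by
  refine HomologicalComplex.shortExact_of_degreewise_shortExact _ fun j => ?_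
  have := hE j
  haveI := hS.mono_f
  haveI := hS.epi_g
  haveI := (ModSite.sheafHomAdj (E.X j)).rightAdjoint_preservesLimits
  exact { exact := hS.exact.map_of_mono_of_preservesKernel (ModSite.sheafHom (E.X j)) ‹_› inferInstance
          mono_f := (ModSite.sheafHom (E.X j)).map_mono S.f
          epi_g := (ModSite.sheafHom (E.X j)).map_epi S.g }

section

variable (F : ModSite.Mod O) [ModSite.HasSheafHom F] (π : E.X 0 ⟶ F) [Epi π]
  (hπ : E.d 1 0 ≫ π = 0) (hex0 : (ShortComplex.mk (E.d 1 0) π hπ).Exact)

omit [Epi π] in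
include hπ in
theorem sheafHomMap_d_eq_zero (G : ModSite.Mod O) :
    (ExtSupp.sheafHomMap π).app G ≫ ((homCx E).obj G).d 0 1 = 0 := by
  rw [homCx_d]
  exact sheafHomMap_comp_eq_zero _ _ hπ G

/-- `Hom(F, G)` is the cycles in degree zero. -/
noncomputable def cyclesZeroIso (G : ModSite.Mod O) :
    (ModSite.sheafHom F).obj G ≅ ((homCx E).obj G).cycles 0 :=
  haveI : Mono ((ExtSupp.sheafHomMap π).app G) :=
    mono_homSeq (ShortComplex.mk (E.d 1 0) π hπ) G
  haveI : Mono (ShortComplex.mk _ _ (sheafHomMap_d_eq_zero E F π hπ G)).f := ‹_›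
  IsLimit.conePointUniqueUpToIso
    ((ShortComplex.exact_of_iso (ShortComplex.isoMk (Iso.refl _) (Iso.refl _) (Iso.refl _)
        (S₁ := homSeq (ShortComplex.mk (E.d 1 0) π hπ) G)
        (S₂ := ShortComplex.mk _ _ (sheafHomMap_d_eq_zero E F π hπ G))
        ((Category.id_comp _).trans (Category.comp_id _).symm)
        ((Category.id_comp _).trans ((homCx_d E G 0).trans (Category.comp_id _).symm)))
      (exact_homSeq (ShortComplex.mk (E.d 1 0) π hπ) hex0 G)).fIsKernel)
    (((homCx E).obj G).cyclesIsKernel 0 1 (by simp))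

theorem cyclesZeroIso_hom (G : ModSite.Mod O) :
    (cyclesZeroIso E F π hπ hex0 G).hom ≫ ((homCx E).obj G).iCycles 0 =
      (ExtSupp.sheafHomMap π).app G :=
  IsLimit.conePointUniqueUpToIso_hom_comp _ _ WalkingParallelPair.zero

/-- The degree zero cohomology. -/
noncomputable def homologyZeroIso :
    homCx E ⋙ homologyFunctor (ModSite.Mod O) (ComplexShape.up ℕ) 0 ≅ ModSite.sheafHom F :=
  (NatIso.ofComponents
    (fun G => cyclesZeroIso E F π hπ hex0 G ≪≫ CochainComplex.isoHomologyπ₀ _)
    (fun {G G'} φ => by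
      have h : (ModSite.sheafHom F).map φ ≫ (cyclesZeroIso E F π hπ hex0 G').hom =
          (cyclesZeroIso E F π hπ hex0 G).hom ≫ cyclesMap ((homCx E).map φ) 0 := by
        rw [← cancel_mono (((homCx E).obj G').iCycles 0), Category.assoc, Category.assoc,
          cyclesMap_i, cyclesZeroIso_hom, ← Category.assoc _ _ (((homCx E).map φ).f 0),
          cyclesZeroIso_hom]
        exact (ExtSupp.sheafHomMap π).naturality φ
      simp only [Iso.trans_hom, Functor.comp_map, homologyFunctor_map, Category.assoc]
      rw [← Category.assoc, h, Category.assoc]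
      congr 1
      exact (homologyπ_naturality _ 0).symm)).symm

include hπ hex0 in
/-- Ext sheaves are computed by a resolution by modules with exact internal Hom. -/
theorem nonempty_homology_iso_extSh [HasInjectiveResolutions (ModSite.Mod O)]
    (hex : ∀ j, E.ExactAt (j + 1))
    (hE : ∀ j, (ModSite.sheafHom (E.X j)).PreservesEpimorphisms) (i : ℕ) (G : ModSite.Mod O) :
    Nonempty (((homCx E).obj G).homology i ≅ (ModSite.extSh F i).obj G) :=
  haveI : PreservesLimitsOfSize.{0, 0} (ModSite.sheafHom F) :=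
    (ModSite.sheafHomAdj F).rightAdjoint_preservesLimits
  nonempty_homology_iso_rightDerived (ModSite.sheafHom F) (homCx E)
    (fun _ hS => shortExact_map_homCx E hE hS)
    (fun I _ n => exactAt_homCx_of_injective E I hex n) (homologyZeroIso E F π hπ hex0) i G

end

end Groth.SheafExt
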