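import Groth.Agent.CohTwo.LocFreeExt
import Groth.Agent.SitesTopoi.Mod.Invertible
import Groth.Agent.SheafExt.HomComplex
import Groth.Agent.RefRank.HomSec
import Groth.Agent.PropsBasic2.TildeExact
import Groth.Agent.PropsBasic.FPSections
import Groth.Agent.DerivedCoh.KFlat.SchemeStalk
import Groth.Prelude.Def_KLin
import Mathlib.AlgebraicGeometry.Noetherian
import Mathlib.CategoryTheory.Linear.Yoneda

/-!
The internal Hom of tilde modules on an affine scheme.
-/

universe u

open CategoryTheory CategoryTheory.Limits AlgebraicGeometry Opposite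

set_option backward.isDefEq.respectTransparency false
set_option linter.style.haveILetI false

namespace Groth.SheafExt.Affine

open Groth.CohTwo.LocFreeExt (tR)
open Groth.PicAux (oneSec tmulSec tensor_hom_ext)

variable {R : CommRingCat.{u}}

/-- `Hom(P, -)` on the spectrum. -/
noncomputable abbrev sH (P : (Spec R).Modules) [ModSite.HasSheafHom (O := (Spec R).sheaf) P] :
    (Spec R).Modules ⥤ (Spec R).Modules :=
  ModSite.sheafHom (O := (Spec R).sheaf) P

/-- The adjunction defining it. -/
noncomputable abbrev adjH (P : (Spec R).Modules) [ModSite.HasSheafHom (O := (Spec R).sheaf) P] :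
    tR P ⊣ sH P :=
  ModSite.sheafHomAdj (O := (Spec R).sheaf) P

/-- `O ⊗ P ≅ P`. -/
noncomputable def unitIso :
    (DCoh.tensorBi (X := Spec R)).obj (Coh.structureModule (Spec R)) ≅ 𝟭 _ :=
  Groth.SitesTopoi.Invertible.unitTensorIso (Spec R).sheaf

/-- A global function of the spectrum. -/
noncomputable abbrev glob (r : R) : Coh.Γtop (Spec R) := (Scheme.ΓSpecIso R).inv r

theorem smul_top (M : (Spec R).Modules) (r : R) (m : Γ(M, ⊤)) :
    (Formal.smulModΓ M (glob r)).app ⊤ m =
      (show Γ(M, ⊤) from @HSMul.hSMul R (moduleSpecΓFunctor.obj M) (moduleSpecΓFunctor.obj M) _ r m) := by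
  rw [KLin.smulModΓ_app_apply]
  have h : ((Spec R).presheaf.map (homOfLE (le_top : (⊤ : (Spec R).Opens) ≤ ⊤)).op) (glob r) =
      glob r := by
    rw [show (homOfLE (le_top : (⊤ : (Spec R).Opens) ≤ ⊤)).op = 𝟙 _ from Subsingleton.elim _ _,
      CategoryTheory.Functor.map_id]
    rfl
  rw [h]
  rfl

theorem tilde_map_smul {M N : ModuleCat.{u} R} (φ : M ⟶ N) (r : R) :
    tilde.map (r • φ) = tilde.map φ ≫ Formal.smulModΓ (tilde N) (glob r) := by
  apply ((tilde.adjunction (R := R)).homEquiv M (tilde N)).injective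
  rw [Adjunction.homEquiv_unit, Adjunction.homEquiv_unit, Functor.map_comp]
  have hn : ∀ (ψ : M ⟶ N), (tilde.adjunction (R := R)).unit.app M ≫
      moduleSpecΓFunctor.map (tilde.map ψ) = ψ ≫ (tilde.adjunction (R := R)).unit.app N :=
    fun ψ => ((tilde.adjunction (R := R)).unit.naturality ψ).symm
  rw [← Category.assoc, hn, hn]
  refine ModuleCat.hom_ext (LinearMap.ext fun m => ?_)
  refine ((((tilde.adjunction (R := R)).unit.app N).hom.map_smul r (φ m))).trans ?_
  exact (smul_top (tilde N) r _).symm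

theorem map_smulModΓ_app (H P : (Spec R).Modules) (r : Coh.Γtop (Spec R)) :
    ((DCoh.tensorBi (X := Spec R)).map (Formal.smulModΓ H r)).app P =
      Formal.smulModΓ (((DCoh.tensorBi (X := Spec R)).obj H).obj P) r := by
  refine tensor_hom_ext fun W a b => ?_
  refine (Groth.DerivedCoh.KFlat.tensorMap_left_tmulSec (Formal.smulModΓ H r) P W a b).trans ?_
  rw [KLin.smulModΓ_app_apply]
  exact (PicAux.tmulSec_smul_left _ a b).trans
    (KLin.smulModΓ_app_apply (((DCoh.tensorBi (X := Spec R)).obj H).obj P) r W (tmulSec a b)).symm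

variable (N : ModuleCat.{u} R)

/-- The map `O → Hom(M~, N~)` of a linear map. -/
noncomputable def toUnitHom (M : ModuleCat.{u} R)
    [ModSite.HasSheafHom (O := (Spec R).sheaf) (tilde M)] (φ : M ⟶ N) :
    Coh.structureModule (Spec R) ⟶ (sH (tilde M)).obj (tilde N) :=
  (adjH (tilde M)).homEquiv _ _ (unitIso.hom.app (tilde M) ≫ tilde.map φ)

variable (M : ModuleCat.{u} R) [ModSite.HasSheafHom (O := (Spec R).sheaf) (tilde M)]

theorem toUnitHom_add (φ ψ : M ⟶ N) :
    toUnitHom N M (φ + ψ) = toUnitHom N M φ + toUnitHom N M ψ := by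
  haveI : (sH (tilde M)).Additive := (adjH (tilde M)).right_adjoint_additive
  rw [toUnitHom, toUnitHom, toUnitHom,
    show tilde.map (φ + ψ) = tilde.map φ + tilde.map ψ from (tilde.functor R).map_add,
    Preadditive.comp_add, Adjunction.homEquiv_unit, Adjunction.homEquiv_unit,
    Adjunction.homEquiv_unit, Functor.map_add, Preadditive.comp_add]

theorem toUnitHom_smul (r : R) (φ : M ⟶ N) :
    toUnitHom N M (r • φ) = Formal.smulModΓ _ (glob r) ≫ toUnitHom N M φ := by
  rw [toUnitHom, toUnitHom, tilde_map_smul, ← Adjunction.homEquiv_naturality_left,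
    ← Category.assoc, KLin.comp_smulModΓ]
  congr 1
  exact congrArg (· ≫ _) (map_smulModΓ_app (Coh.structureModule (Spec R)) (tilde M) (glob r)).symm

/-- Linear maps as global sections of the internal Hom. -/
noncomputable def theta :
    ModuleCat.of R (M ⟶ N) ⟶ moduleSpecΓFunctor.obj ((sH (tilde M)).obj (tilde N)) :=
  ModuleCat.ofHom
    (X := (M ⟶ N)) (Y := moduleSpecΓFunctor.obj ((sH (tilde M)).obj (tilde N)))
    { toFun := fun φ => (toUnitHom N M φ).app ⊤ (oneSec (Spec R) ⊤)
      map_add' := fun φ ψ => by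
        rw [toUnitHom_add, Scheme.Modules.Hom.add_app]
        rfl
      map_smul' := fun r φ => by
        rw [toUnitHom_smul, ← KLin.comp_smulModΓ]
        exact smul_top _ r _ }

theorem theta_apply (φ : M ⟶ N) :
    (theta N M).hom φ = (toUnitHom N M φ).app ⊤ (oneSec (Spec R) ⊤) := rfl

theorem theta_bijective : Function.Bijective (theta N M).hom := by
  have hf : Function.Bijective (fun φ : M ⟶ N => (tilde.map φ : tilde M ⟶ tilde N)) :=
    (tilde.adjunction (R := R)).fullyFaithfulLOfIsIsoUnit.map_bijective M N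
  refine ⟨fun φ ψ h => ?_, fun s => ?_⟩
  · have e : toUnitHom N M φ = toUnitHom N M ψ := PicAux.hom_structure_ext h
    exact hf.1 ((cancel_epi _).1 (((adjH (tilde M)).homEquiv _ _).injective e))
  · obtain ⟨g, hg⟩ := PicAux.exists_hom_structure (M := (sH (tilde M)).obj (tilde N)) s
    obtain ⟨φ, hφ⟩ := hf.2 (unitIso.inv.app (tilde M) ≫ ((adjH (tilde M)).homEquiv _ _).symm g)
    refine ⟨φ, ?_⟩
    have e : toUnitHom N M φ = g := by
      rw [toUnitHom]
      dsimp only at hφ
      rw [hφ, Iso.hom_inv_id_app_assoc]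
      exact ((adjH (tilde M)).homEquiv _ _).apply_symm_apply g
    rw [theta_apply, e]
    exact hg

/-- `(Hom(M, N))~ → Hom(M~, N~)`. -/
noncomputable def psi : tilde (ModuleCat.of R (M ⟶ N)) ⟶ (sH (tilde M)).obj (tilde N) :=
  ((tilde.adjunction (R := R)).homEquiv _ _).symm (theta N M)

/-- `(Hom(M, N))~ ≅ Hom(M~, N~)` for finite modules over a Noetherian ring. -/
theorem isIso_psi [IsNoetherianRing R] [Module.Finite R M] : IsIso (psi N M) := by
  haveI : IsIso (theta N M) := (ConcreteCategory.isIso_iff_bijective _).2 (theta_bijective N M)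
  haveI := CohTwo.LocFreeExt.hasSheafHom (tilde M)
  haveI : ((sH (tilde M)).obj (tilde N)).IsQuasicoherent := by
    have hM : Coh.IsCoh (tilde M) :=
      ⟨inferInstanceAs (tilde M).IsQuasicoherent, (PropsBasic.FPSections.isFT_tilde_iff M).2 inferInstance⟩
    have := RefRank.isQuasicoherent_homSh (F := tilde M) (G := tilde N) hM
    exact (SheafOfModules.isQuasicoherent (Spec R).ringCatSheaf).prop_of_iso
      ((CohTwo.LocFreeExt.msIso (tilde M)).app (tilde N) ≪≫ CohTwo.SheafHomIso.iso _ _).symm this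
  haveI : IsIso ((tilde.adjunction (R := R)).counit.app ((sH (tilde M)).obj (tilde N))) :=
    inferInstanceAs (IsIso ((sH (tilde M)).obj (tilde N)).fromTildeΓ)
  rw [psi, Adjunction.homEquiv_counit]
  infer_instance

variable {M}
variable {M' : ModuleCat.{u} R} [ModSite.HasSheafHom (O := (Spec R).sheaf) (tilde M')]

theorem toUnitHom_comp (g : M' ⟶ M) (φ : M ⟶ N) :
    toUnitHom N M φ ≫ (ExtSupp.sheafHomMap (O := (Spec R).sheaf) (tilde.map g)).app (tilde N) =
      toUnitHom N M' (g ≫ φ) := by
  apply ((adjH (tilde M')).homEquiv _ _).symm.injective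
  refine (Groth.SheafExt.curry_symm_comp (O := (Spec R).sheaf) (tilde.map g) _).trans ?_
  rw [toUnitHom, toUnitHom, Equiv.symm_apply_apply]
  refine (congrArg (((DCoh.tensorBi (X := Spec R)).obj (Coh.structureModule (Spec R))).map
    (tilde.map g) ≫ ·) ((adjH (tilde M)).homEquiv _ _ |>.symm_apply_apply _)).trans ?_
  rw [NatTrans.naturality_assoc]
  exact congrArg (unitIso.hom.app (tilde M') ≫ ·) ((tilde.functor R).map_comp g φ).symm

theorem psi_naturality (g : M' ⟶ M) :
    psi N M ≫ (ExtSupp.sheafHomMap (O := (Spec R).sheaf) (tilde.map g)).app (tilde N) =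
      tilde.map (ModuleCat.ofHom (Linear.leftComp R N g)) ≫ psi N M' := by
  rw [psi, psi]
  refine ((tilde.adjunction (R := R)).homEquiv_naturality_right_symm _ _).symm.trans ?_
  refine Eq.trans ?_ ((tilde.adjunction (R := R)).homEquiv_naturality_left_symm _ _)
  congr 1
  refine ModuleCat.hom_ext (LinearMap.ext fun φ => ?_)
  exact congrArg (fun x => Scheme.Modules.Hom.app x ⊤ (oneSec (Spec R) ⊤)) (toUnitHom_comp N g φ)

end Groth.SheafExt.Affine
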