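import Groth.Agent.SheafExt.HomComplex
import Groth.Agent.CohTwo.LocFreeExt
import Groth.Agent.Duality.SheafHom

/-!
Ext sheaves on schemes from finite locally free resolutions.
-/

universe u

open CategoryTheory CategoryTheory.Limits AlgebraicGeometry HomologicalComplex

set_option backward.isDefEq.respectTransparency false

namespace Groth.SheafExt

variable {X : Scheme.{u}}

/-- The internal Hom out of a finite locally free module preserves epimorphisms. -/
theorem preservesEpimorphisms_sheafHom {P : X.Modules} (hP : FlatMod.IsFinLocFree P)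
    [ModSite.HasSheafHom (O := X.sheaf) P] :
    (ModSite.sheafHom (O := X.sheaf) P : X.Modules ⥤ X.Modules).PreservesEpimorphisms :=
  haveI := CohTwo.LocFreeExt.hasSheafHom P
  haveI : (DCoh.sheafHom P).PreservesEpimorphisms :=
    ⟨fun p _ => Duality.SheafHom.epi_map P hP p⟩
  Functor.preservesEpimorphisms.of_iso (CohTwo.LocFreeExt.msIso P).symm

/-- Ext sheaves from a resolution by finite locally free modules. -/
theorem nonempty_homology_iso_extSh_of_isFinLocFree (F : X.Modules)
    [ModSite.HasSheafHom (O := X.sheaf) F] [HasInjectiveResolutions (ModSite.Mod X.sheaf)]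
    (E : ChainComplex X.Modules ℕ) [∀ j : ℕ, ModSite.HasSheafHom (O := X.sheaf) (E.X j)]
    (π : E.X 0 ⟶ F) [Epi π] (hπ : E.d 1 0 ≫ π = 0)
    (hex0 : (ShortComplex.mk (E.d 1 0) π hπ).Exact) (hex : ∀ j, E.ExactAt (j + 1))
    (hE : ∀ j, FlatMod.IsFinLocFree (E.X j)) (i : ℕ) (G : X.Modules) :
    Nonempty (((homCx (O := X.sheaf) E).obj G).homology i ≅
      (ModSite.extSh (O := X.sheaf) F i).obj G) :=
  nonempty_homology_iso_extSh (O := X.sheaf) E F π hπ hex0 hex
    (fun j => preservesEpimorphisms_sheafHom (hE j)) i G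

end Groth.SheafExt
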