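import Groth.Agent.SheafExt.TildeHom
import Groth.Agent.SheafExt.Scheme
import Groth.Agent.LocCohBase.ExtBridge
import Groth.Agent.FlatmorThree.FiniteFreeResolution
import Groth.Agent.S12451

/-!
Ext sheaves of finite modules on a Noetherian affine scheme.
-/

universe u

open CategoryTheory CategoryTheory.Limits AlgebraicGeometry Opposite HomologicalComplex

set_option backward.isDefEq.respectTransparency false
set_option linter.style.haveILetI false

namespace Groth.SheafExt.Affine

variable {R : CommRingCat.{u}} [IsNoetherianRing R]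

/-- Ext sheaves of tilde modules are tilde of Ext modules. -/
theorem nonempty_extSh_tilde_iso (M N : ModuleCat.{u} R) [hM : Module.Finite R M]
    [ModSite.HasSheafHom (O := (Spec R).sheaf) (tilde M)]
    [HasInjectiveResolutions (ModSite.Mod (Spec R).sheaf)] (i : ℕ) :
    Nonempty (((ModSite.extSh (O := (Spec R).sheaf) (tilde M) i).obj (tilde N)) ≅
      tilde (ModuleCat.of R (Abelian.Ext M N i))) := by
  haveI := PropsBasic2.preservesFiniteLimits_tilde R
  haveI := PropsBasic2.preservesFiniteColimits_tilde R
  let Q : FlatmorThree.FFRes.FinMod R := ⟨M, hM⟩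
  let P := FlatmorThree.FFRes.resolution Q
  let E : ChainComplex (Spec R).Modules ℕ := ((tilde.functor R).mapHomologicalComplex _).obj P.complex
  let S₀ : ShortComplex (ModuleCat.{u} R) :=
    ShortComplex.mk (P.complex.d 1 0) (FlatmorThree.FFRes.aug Q) (FlatmorThree.FFRes.d_aug Q)
  have hS₀ : S₀.Exact := by
    rw [ShortComplex.moduleCat_exact_iff]
    intro x hx
    obtain ⟨y, hy⟩ := (FlatmorThree.FFRes.mem_range_diff (N := Q) (n := 0)).mpr hx
    refine ⟨y, ?_⟩
    change ((FlatmorThree.FFRes.complex Q).d 1 0).hom y = x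
    rw [FlatmorThree.FFRes.complex_d]
    exact hy
  haveI hp : Epi (FlatmorThree.FFRes.aug Q) :=
    (ModuleCat.epi_iff_surjective _).mpr (FlatmorThree.FFRes.cover_surjective Q)
  let π : E.X 0 ⟶ tilde M := tilde.map (FlatmorThree.FFRes.aug Q)
  haveI : Epi π := inferInstanceAs (Epi ((tilde.functor R).map (FlatmorThree.FFRes.aug Q)))
  have hπ : E.d 1 0 ≫ π = 0 := (S₀.map (tilde.functor R)).zero
  have hex0 : (ShortComplex.mk (E.d 1 0) π hπ).Exact := hS₀.map (tilde.functor R)
  have hex : ∀ j, E.ExactAt (j + 1) := fun j => (P.complex_exactAt_succ j).map (tilde.functor R)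
  haveI : ∀ j, Module.Finite R (P.complex.X j) := fun j =>
    inferInstanceAs (Module.Finite R (Fin (FlatmorThree.FFRes.rk (FlatmorThree.FFRes.syz Q j)) → R))
  have hE : ∀ j, FlatMod.IsFinLocFree (E.X j) := fun j => by
    haveI : Projective (P.complex.X j) := inferInstance
    exact (Groth.Agent.S12451.result (P.complex.X j)).2
      ⟨inferInstance, (IsProjective.iff_projective (P.complex.X j)).2 inferInstance⟩
  haveI hSH : ∀ j, ModSite.HasSheafHom (O := (Spec R).sheaf) (E.X j) := fun j =>
    SitesTopoi.ModH.hasSheafHom (O := (Spec R).sheaf) (E.X j)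
  haveI hSH' : ∀ j, ModSite.HasSheafHom (O := (Spec R).sheaf) (tilde (P.complex.X j)) := hSH
  obtain ⟨e⟩ := nonempty_homology_iso_extSh_of_isFinLocFree (tilde M) E π hπ hex0 hex hE i (tilde N)
  haveI : ∀ j, IsIso (psi N (P.complex.X j)) := fun j => isIso_psi N (P.complex.X j)
  let K := LocCohBase.homCx P N
  let c : ((tilde.functor R).mapHomologicalComplex _).obj K ≅
      (homCx (O := (Spec R).sheaf) E).obj (tilde N) :=
    HomologicalComplex.Hom.isoOfComponents (fun j => asIso (psi N (P.complex.X j))) (by
      intro a b hab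
      obtain rfl : a + 1 = b := hab
      refine ((congrArg (psi N (P.complex.X a) ≫ ·)
        (homCx_d (O := (Spec R).sheaf) E (tilde N) a)).trans ?_)
      exact psi_naturality N (P.complex.d (a + 1) a))
  exact ⟨e.symm ≪≫ (HomologicalComplex.homologyFunctor _ _ i).mapIso c.symm ≪≫
    (K.sc i).mapHomologyIso (tilde.functor R) ≪≫
    (tilde.functor R).mapIso (LocCohBase.homologyEquivExt P N i).toModuleIso⟩

end Groth.SheafExt.Affine
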