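import Groth.Agent.CohFin.Acyclic
import Mathlib.Algebra.Homology.HomologySequence

/-!
A cohomological functor given by complexes, vanishing on injective objects in positive degrees,
computes the right derived functors of its degree zero part.
-/

universe v u v' u'

open CategoryTheory CategoryTheory.Limits HomologicalComplex

namespace Groth.SheafExt

open Groth.CohFin Groth.CohBase

variable {C : Type u} [Category.{v} C] [Abelian C] [EnoughInjectives C]
  {D : Type u'} [Category.{v'} D] [Abelian D]
  (Φ : C ⥤ D) [Φ.Additive] [PreservesFiniteLimits Φ]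
  (T : C ⥤ CochainComplex D ℕ) [T.PreservesZeroMorphisms]

theorem nonempty_homology_iso_rightDerived
    (hT : ∀ S : ShortComplex C, S.ShortExact → (S.map T).ShortExact)
    (hinj : ∀ I : C, Injective I → ∀ n : ℕ, (T.obj I).ExactAt (n + 1))
    (η : T ⋙ homologyFunctor D (ComplexShape.up ℕ) 0 ≅ Φ) :
    ∀ (n : ℕ) (G : C), Nonempty ((T.obj G).homology n ≅ (Φ.rightDerived n).obj G) := by
  intro n
  induction n with
  | zero => exact fun G => ⟨η.app G ≪≫ (Φ.rightDerivedZeroIsoSelf.app G).symm⟩
  | succ n ih =>
    intro G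
    have hS := injSeq_shortExact G
    have hS' := hT _ hS
    have hz : ∀ m : ℕ, IsZero ((T.obj (injSeq G).X₂).homology (m + 1)) := fun m =>
      (hinj _ inferInstance m).isZero_homology
    have hij : (ComplexShape.up ℕ).Rel n (n + 1) := rfl
    rcases n with _ | k
    · obtain ⟨e⟩ := nonempty_rightDerived_one_iso_of_injective (F := Φ) hS
      have hepi : Epi (hS'.δ 0 1 hij) := (hS'.homology_exact₁ 0 1 hij).epi_f ((hz 0).eq_of_tgt _ _)
      have hc := (hS'.homology_exact₃ 0 1 hij).gIsCokernel
      refine ⟨hc.coconePointUniqueUpToIso (cokernelIsCokernel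
        (homologyMap ((injSeq G).map T).g 0)) ≪≫ ?_ ≪≫ e.symm⟩
      exact cokernel.mapIso _ _ (η.app _) (η.app _) (η.hom.naturality (injSeq G).g)
    · obtain ⟨e⟩ := ih (injSeq G).X₃
      exact ⟨(hS'.δIso (k + 1) (k + 2) hij (hz k) (hz (k + 1))).symm ≪≫ e ≪≫
        (rightDerivedShift hS Φ k).symm⟩

end Groth.SheafExt
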